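import Mathlib
import Cfsg.Agent.Lib.MCore.Qc
import Cfsg.Agent.Lib.Leech.Mat

/-! Package REC: records and states of elements of the centraliser of `z`. -/

set_option autoImplicit false
set_option exponentiation.threshold 10000

namespace H95.MC

open Cfsg Finset H95.Gr Matrix

/-- the action on `Q` -/
def Tab (T : ℕ) (c : GG) : Prop := ∀ i < 24, cj c (Qc (2 ^ i)) = Qc (fd T i)

/-- the matrix modulo 3 -/
def Gok (G : ℕ) (g : Co0) : Prop :=
  ∀ p < 24, ∀ q < 24, gz G p q = -(((g • H16.e8 (H15.pt q)).1 (H15.pt p) : ℤ) : ZMod 3)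

/-- `T, G` is a record of `c` -/
def Val (T G : ℕ) (c : GG) : Prop := ∃ x : Ch ℝ, Ch.toAut x = c ∧ Tab T c ∧ Gok G x.g ∧
  0 < ((Qx (fd T 24)).a *ᵥ fv 0) ⬝ᵥ (x.a *ᵥ fv 0)

/-- `T, G, W` is a state of `c` -/
def St (T G W : ℕ) (c : GG) : Prop := ∃ x : Ch ℝ, Ch.toAut x = c ∧ Tab T c ∧ Gok G x.g ∧
  W < 2 ^ 8192 ∧ (W >>> 4096 = 0 ∨ ∃ r : ℝ, 0 < r ∧ ∀ j < 4096, fv j ⬝ᵥ (x.a *ᵥ fv 0) = r * vl W j)

variable {T G W T2 G2 : ℕ} {c d : GG}

/-! ### the action on `Q` -/

theorem rc_bz_of_not {x i : ℕ} (h : x.testBit i = false) : bz x i = 0 := by simp [bz, h]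

theorem rc_bz_of {x i : ℕ} (h : x.testBit i = true) : bz x i = 1 := by simp [bz, h]

theorem rc_bz_mod (u : ℕ) {n i : ℕ} (h : i < n) : bz (u % 2 ^ n) i = bz u i := by
  simp [bz, Nat.testBit_mod_two_pow, h]

theorem rc_bz_pow (i j : ℕ) : bz (2 ^ i) j = if i = j then 1 else 0 := by
  simp [bz, Nat.testBit_two_pow]

theorem rc_bz_lt {x n i : ℕ} (h : x < 2 ^ n) (hi : n ≤ i) : bz x i = 0 :=
  rc_bz_of_not (Nat.testBit_lt_two_pow (lt_of_lt_of_le h (Nat.pow_le_pow_right (by norm_num) hi)))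

theorem rc_dz_zero (a : ℕ) : dz a 0 = 0 := by simp [dz, bz]

theorem rc_land (u : ℕ) : Nat.land u 16777216 = 0 ∨ Nat.land u 16777216 = 2 ^ 24 := by
  have : Nat.land u 16777216 = u &&& 2 ^ 24 := rfl
  rw [this, Nat.and_two_pow]
  cases u.testBit 24 <;> simp

theorem rc_zz : (zA * zA : GG) = 1 := by
  have := qa_mul_z (F := ℝ) 1 0
  rw [← zA_eq] at this
  rw [this]
  exact qa_zero

theorem rc_cj_z (hc : c * zA = zA * c) : cj c zA = zA := by
  rw [cj_apply, hc, mul_assoc, mul_inv_cancel, mul_one]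

theorem rc_map_pqL {A B : ℕ} {u : ℕ} (n : ℕ)
    (h : ∀ i < n, cj c (Qc (fd A i)) = Qc (fd B i)) :
    ∀ a b, cj c (Qc a) = Qc b → cj c (Qc (pqL A u n a)) = Qc (pqL B u n b) := by
  induction n with
  | zero => exact fun a b e => e
  | succ n ih =>
    intro a b e
    rw [pqL_succ, pqL_succ]
    refine ih (fun i hi => h i (by omega)) _ _ ?_
    split_ifs
    · rw [← Qc_mul, ← Qc_mul, map_mul, e, h n (by omega)]
    · exact e

theorem map_pq {A B : ℕ} (hc : c * zA = zA * c) (h : ∀ i < 24, cj c (Qc (fd A i)) = Qc (fd B i))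
    (u : ℕ) : cj c (Qc (pq A u)) = Qc (pq B u) := by
  refine rc_map_pqL 24 h _ _ ?_
  rcases rc_land u with e | e <;> rw [e]
  · rw [Qc_zero, map_one]
  · rw [Qc_z, rc_cj_z hc]

theorem rc_Qc_mod (u : ℕ) : Qc (u % 2 ^ 25) = Qc u := Qc_congr fun _ hi => rc_bz_mod u hi

theorem rc_Qx_mod (u : ℕ) : Qx (u % 2 ^ 25) = Qx u := Qx_congr fun _ hi => rc_bz_mod u hi

theorem Tab.map (h : Tab T c) (hc : c * zA = zA * c) (u : ℕ) : cj c (Qc u) = Qc (pq T u) := by
  rw [← map_pq (A := IDT) hc (fun i hi => by rw [fd_IDT hi, h i hi]) u, pq_IDT, rc_Qc_mod]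

theorem Tab.cls (h : Tab T c) (hc : c * zA = zA * c) (u : ℕ) :
    cj c (Qc u) = Qc (ap1 T u) ∨ cj c (Qc u) = Qc (ap1 T u) * zA := by
  rw [h.map hc, ap1_eq]
  rcases Qc_mod (pq T u) with e | e <;> rw [e]
  · exact Or.inl rfl
  · exact Or.inr (by rw [mul_assoc, rc_zz, mul_one])

theorem Val.tab (h : Val T G c) : Tab T c := h.choose_spec.2.1

theorem Val.cz (h : Val T G c) : c * zA = zA * c := by
  obtain ⟨x, rfl, -⟩ := h
  exact cz_toAut x

theorem St.tab (h : St T G W c) : Tab T c := h.choose_spec.2.1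

theorem St.cz (h : St T G W c) : c * zA = zA * c := by
  obtain ⟨x, rfl, -⟩ := h
  exact cz_toAut x

/-- lifting a conjugation -/
theorem rc_lift {x : Ch ℝ} {u v : ℕ} (h : cj (Ch.toAut x) (Qc u) = Qc v) :
    x * Qx u * x⁻¹ = Qx v := by
  rw [cj_apply, Qc, Qc, qa_conj, qa_inj] at h
  rw [Qx, Qx, qx_conj, h.1, h.2]

theorem rc_unlift {x : Ch ℝ} {u v : ℕ} (h : x * Qx u * x⁻¹ = Qx v) :
    cj (Ch.toAut x) (Qc u) = Qc v := by
  rw [cj_apply, Qc_eq, Qc_eq, ← h, map_mul, map_mul, map_inv]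

theorem rc_vec {x : Ch ℝ} {u v : ℕ} (h : cj (Ch.toAut x) (Qc u) = Qc v) (y : Cd → ℝ) :
    x.a *ᵥ ((Qx u).a *ᵥ y) = (Qx v).a *ᵥ (x.a *ᵥ y) := by
  rw [mulVec_mulVec, mulVec_mulVec, ← Ch.mul_a, ← Ch.mul_a, ← rc_lift h, inv_mul_cancel_right]

theorem Tab.mul (h : Tab T c) (hc : c * zA = zA * c) (h2 : Tab T2 d) : Tab (app T T2) (c * d) := by
  intro i hi
  rw [cj_mul, h2 i hi, h.map hc, fd_app _ _ (by omega)]

/-! ### the matrices modulo 3 -/

/-- the matrix of a lattice automorphism modulo 3 -/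
def mz (g : Co0) : Matrix GolayPt GolayPt (ZMod 3) :=
  Matrix.of fun p q => -(((g • H16.e8 q).1 p : ℤ) : ZMod 3)

/-- the matrix of a code -/
def mG (G : ℕ) : Matrix GolayPt GolayPt (ZMod 3) :=
  Matrix.of fun p q => gz G (H15.idx p) (H15.idx q)

theorem gok_iff {g : Co0} : Gok G g ↔ mG G = mz g := by
  constructor
  · intro h
    ext p q
    have := h _ (H15.idx_lt p) _ (H15.idx_lt q)
    rwa [H15.pt_idx, H15.pt_idx] at this
  · intro h p hp q hq
    have := congrFun (congrFun h (H15.pt p)) (H15.pt q)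
    rwa [mG, mz, of_apply, of_apply, H15.idx_pt hp, H15.idx_pt hq] at this

theorem mz_mul (g h : Co0) : mz (g * h) = mz g * mz h := by
  ext p q
  have := congrArg (Int.cast : ℤ → ZMod 3) (H16.eight_mul_co0 g (h • H16.e8 q) p)
  rw [Int.cast_mul, Int.cast_sum, show ((8 : ℤ) : ZMod 3) = -1 by decide] at this
  simp only [mz, mul_apply, of_apply, mul_smul, neg_mul_neg]
  rw [neg_mul, one_mul] at this
  rw [this]
  exact Finset.sum_congr rfl fun i _ => by rw [Int.cast_mul, mul_comm]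

theorem mz_one : mz 1 = 1 := by
  ext p q
  rw [mz, of_apply, one_smul, H16.coe_e8, one_apply, Pi.single_apply]
  split_ifs
  · decide
  · simp

theorem mz_neg : mz H16.negCo0 = -1 := by
  ext p q
  rw [← mz_one]
  simp [mz, H16.negCo0_smul]

theorem mG_gmu (A B : ℕ) : mG (gmu A B) = mG A * mG B := by
  ext p q
  simp only [mG, mul_apply, of_apply]
  rw [gz_gmu _ _ (H15.idx_lt p) (H15.idx_lt q), H16.sum_pt]
  exact Finset.sum_congr rfl fun i hi => by rw [H15.idx_pt (mem_range.1 hi)]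

theorem mG_GI : mG GI = 1 := by
  ext p q
  rw [mG, of_apply, gz_GI (H15.idx_lt p) (H15.idx_lt q), one_apply]
  simp only [H15.idx_injective.eq_iff]

theorem mG_gsc (A : ℕ) {s : ℕ} (hs : s ≤ 1) : mG (gsc A s) = ((-1 : ZMod 3) ^ s) • mG A := by
  ext p q
  rw [mG, mG, Matrix.smul_apply, of_apply, of_apply, gz_gsc _ hs (H15.idx_lt p) (H15.idx_lt q), smul_eq_mul]

theorem Gok.one : Gok GI 1 := gok_iff.2 (mG_GI.trans mz_one.symm)

theorem Gok.mul {g h : Co0} (a : Gok G g) (b : Gok G2 h) : Gok (gmu G G2) (g * h) := by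
  rw [gok_iff] at a b ⊢
  rw [mG_gmu, mz_mul, a, b]

theorem Gok.inv {g : Co0} (a : Gok G g) (e : gmu G G2 = GI) : Gok G2 g⁻¹ := by
  rw [gok_iff] at a ⊢
  have := mG_gmu G G2
  rw [e, mG_GI, a] at this
  rw [← mul_one (mz g⁻¹), this, ← mul_assoc, ← mz_mul, inv_mul_cancel, mz_one, one_mul]

theorem Gok.neg {g : Co0} (a : Gok G g) : Gok (gsc G 1) (g * H16.negCo0) := by
  rw [gok_iff] at a ⊢
  rw [mG_gsc _ le_rfl, mz_mul, mz_neg, a]
  simp

theorem Gok.pos {g : Co0} (a : Gok G g) : Gok (gsc G 0) g := by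
  rw [gok_iff] at a ⊢
  rw [mG_gsc _ zero_le_one, a]
  simp

theorem Gok.ne_neg {g : Co0} (a : Gok G g) : ¬Gok G (g * H16.negCo0) := by
  intro b
  rw [gok_iff] at a b
  rw [a] at b
  have e : mz g⁻¹ * mz g = mz g⁻¹ * mz (g * H16.negCo0) := by rw [← b]
  rw [← mz_mul, ← mz_mul, inv_mul_cancel, inv_mul_cancel_left, mz_one, mz_neg] at e
  have := congrFun (congrFun e none) none
  rw [neg_apply, one_apply_eq] at this
  revert this
  decide

/-! ### states and vectors -/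

/-- `W` describes the vector `v` up to a positive factor -/
def Rp (W : ℕ) (v : Cd → ℝ) : Prop :=
  W < 2 ^ 8192 ∧ (W >>> 4096 = 0 ∨ ∃ r : ℝ, 0 < r ∧ ∀ j < 4096, fv j ⬝ᵥ v = r * vl W j)

theorem rc_orth (x : Ch ℝ) (v w : Cd → ℝ) : (x.a *ᵥ v) ⬝ᵥ (x.a *ᵥ w) = v ⬝ᵥ w := by
  rw [dotProduct_mulVec, vecMul_mulVec, x.ho, vecMul_one]

theorem rc_xor_lt {j : ℕ} (hj : j < 4096) (u : ℕ) : j ^^^ u % 4096 < 4096 :=
  Nat.xor_lt_two_pow (n := 12) hj (Nat.mod_lt _ (by norm_num))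

theorem rc_co (u : ℕ) {j : ℕ} (hj : j < 4096) (v : Cd → ℝ) :
    fv (j ^^^ u % 4096) ⬝ᵥ ((Qx u).a *ᵥ v) = sg (bz u 24 + dz (u >>> 12) j) * (fv j ⬝ᵥ v) := by
  rw [← rc_orth (Qx u) (fv j) v, Qx_fv u hj, smul_dotProduct, smul_eq_mul, ← mul_assoc,
    sg_mul_self, one_mul]

theorem rc_all_xor {P : ℕ → Prop} (u : ℕ) (h : ∀ j < 4096, P (j ^^^ u % 4096)) :
    ∀ j < 4096, P j := by
  intro j hj
  have := h _ (rc_xor_lt hj u)
  rwa [Nat.xor_assoc, Nat.xor_self, Nat.xor_zero] at this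

theorem rc_pau_zero (u : ℕ) (h : W < 2 ^ 8192) (e : W >>> 4096 = 0) : pau u W >>> 4096 = 0 := by
  rw [vl_zero_iff (pau_lt u h)]
  rw [vl_zero_iff h] at e
  refine rc_all_xor u fun j hj => ?_
  rw [vl_pau u h hj, e j hj, mul_zero]

theorem rc_pau_eq (u : ℕ) (h : W < 2 ^ 8192) {r : ℝ} {v : Cd → ℝ}
    (e : ∀ j < 4096, fv j ⬝ᵥ v = r * vl W j) :
    ∀ j < 4096, fv j ⬝ᵥ ((Qx u).a *ᵥ v) = r * vl (pau u W) j := by
  refine rc_all_xor u fun j hj => ?_
  rw [rc_co u hj, vl_pau u h hj, e j hj]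
  ring

theorem Rp.pau {v : Cd → ℝ} (h : Rp W v) (u : ℕ) : Rp (pau u W) ((Qx u).a *ᵥ v) :=
  ⟨pau_lt u h.1, h.2.imp (rc_pau_zero u h.1) fun ⟨r, hr, e⟩ => ⟨r, hr, rc_pau_eq u h.1 e⟩⟩

theorem Rp.sad {v : Cd → ℝ} (h : Rp W v) (u : ℕ) :
    Rp (sad W (MC.pau u W)) (v + (Qx u).a *ᵥ v) := by
  refine ⟨sad_lt h.1 (pau_lt u h.1), ?_⟩
  rcases h.2 with e | ⟨r, hr, e⟩
  · exact Or.inl (sad_zero e (rc_pau_zero u h.1 e))
  · refine (sad_spec h.1 (pau_lt u h.1)).imp id fun ⟨s, hs, e'⟩ => ⟨r * s, mul_pos hr hs, fun j hj => ?_⟩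
    rw [dotProduct_add, e j hj, rc_pau_eq u h.1 e j hj, ← mul_add, e' j hj, mul_assoc]

theorem Rp.smul {v : Cd → ℝ} {t : ℝ} (ht : 0 < t) (h : Rp W (t • v)) : Rp W v := by
  refine ⟨h.1, h.2.imp id fun ⟨r, hr, e⟩ => ⟨r / t, div_pos hr ht, fun j hj => ?_⟩⟩
  have := e j hj
  rw [dotProduct_smul, smul_eq_mul] at this
  field_simp
  linarith

theorem Rp.zero (h : Rp W 0) : W >>> 4096 = 0 := by
  refine h.2.elim id fun ⟨r, hr, e⟩ => (vl_zero_iff h.1).2 fun j hj => ?_
  have := e j hj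
  rw [dotProduct_zero] at this
  exact (mul_eq_zero.1 this.symm).resolve_left hr.ne'

theorem rc_prj_succ (T n W : ℕ) :
    prj T (n + 1) W = prj T n (sad W (pau (fd T (12 + n)) W)) := rfl

theorem rc_co_pow {i j : ℕ} (hi : i < 12) (hj : j < 4096) (v : Cd → ℝ) :
    fv j ⬝ᵥ ((Qx (2 ^ (12 + i))).a *ᵥ v) = sg (bz j i) * (fv j ⬝ᵥ v) := by
  have e := rc_co (2 ^ (12 + i)) hj v
  have h1 : 2 ^ (12 + i) % 4096 = 0 := by rw [pow_add]; omega
  have h2 : 2 ^ (12 + i) >>> 12 = 2 ^ i := by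
    rw [Nat.shiftRight_eq_div_pow, pow_add, Nat.mul_div_cancel_left _ (by norm_num)]
  have h3 : dz (2 ^ i) j = bz j i := by
    simp only [dz, rc_bz_pow, ite_mul, one_mul, zero_mul]
    rw [Finset.sum_ite_eq, if_pos (mem_range.2 hi)]
  rwa [h1, Nat.xor_zero, h2, h3, rc_bz_pow, if_neg (by omega), zero_add] at e

theorem rc_prj {w : Ch ℝ} (hT : Tab T (Ch.toAut w)) (n : ℕ) (hn : n ≤ 12) :
    ∀ (W : ℕ) (z : Cd → ℝ), Rp W (w.a *ᵥ z) → ∃ z', Rp (prj T n W) (w.a *ᵥ z') ∧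
      fv 0 ⬝ᵥ z' = 2 ^ n * (fv 0 ⬝ᵥ z) ∧
      ∀ j < 4096, (fv j ⬝ᵥ z = 0 ∨ ∃ i < n, j.testBit i = true) → fv j ⬝ᵥ z' = 0 := by
  induction n with
  | zero =>
    intro W z h
    exact ⟨z, h, by simp, fun j _ e => e.elim id fun ⟨i, hi, _⟩ => absurd hi (by omega)⟩
  | succ n ih =>
    intro W z h
    have h1 := h.sad (fd T (12 + n))
    rw [← rc_vec (hT (12 + n) (by omega)), ← mulVec_add] at h1
    obtain ⟨z', a, b, e⟩ := ih (by omega) _ _ h1
    refine ⟨z', a, ?_, fun j hj hh => e j hj ?_⟩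
    · rw [b, dotProduct_add, rc_co_pow (by omega) (by norm_num), rc_bz_of_not (by simp), sg_zero]
      ring
    · rw [dotProduct_add, rc_co_pow (by omega) hj]
      rcases hh with hh | ⟨i, hi, hb⟩
      · exact Or.inl (by rw [hh]; ring)
      · rcases Nat.lt_succ_iff_lt_or_eq.1 hi with hi | rfl
        · exact Or.inr ⟨i, hi, hb⟩
        · exact Or.inl (by rw [rc_bz_of hb, sg_one]; ring)

theorem rc_prj12 {w : Ch ℝ} (hT : Tab T (Ch.toAut w)) {z : Cd → ℝ} (h : Rp W (w.a *ᵥ z)) :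
    Rp (prj T 12 W) ((2048 * (fv 0 ⬝ᵥ z)) • (w.a *ᵥ fv 0)) := by
  obtain ⟨z', a, b, e⟩ := rc_prj hT 12 le_rfl W z h
  have : z' = (2048 * (fv 0 ⬝ᵥ z)) • fv 0 := by
    refine sub_eq_zero.1 (fv_ext fun j hj => ?_)
    rw [dotProduct_sub, dotProduct_smul, fv_dot hj (by norm_num), smul_eq_mul]
    split_ifs with h0
    · rw [h0, b]; ring
    · obtain ⟨i, hi⟩ := Nat.exists_testBit_of_ne_zero h0
      rw [e j hj (Or.inr ⟨i, ?_, hi⟩)]
      · ring
      · by_contra hh
        have := Nat.testBit_lt_two_pow (x := j) (i := i)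
          (lt_of_lt_of_le hj (Nat.pow_le_pow_right (n := 2) (i := 12) (by norm_num) (by omega)))
        rw [this] at hi
        exact absurd hi (by simp)
  rwa [this, mulVec_smul] at a

/-- the vector behind the product -/
theorem rc_stp {x y : Ch ℝ} (hx : Tab T (Ch.toAut x)) (hy : Tab T2 (Ch.toAut y))
    (h : Rp W (x.a *ᵥ fv 0)) :
    Rp (prj (app T T2) 12 (pau (fd (app T T2) 24) W))
      ((2048 * (((Qx (fd T2 24)).a *ᵥ fv 0) ⬝ᵥ (y.a *ᵥ fv 0))) • ((x * y).a *ᵥ fv 0)) := by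
  have h1 := h.pau (fd (app T T2) 24)
  rw [fd_app _ _ (by norm_num), ← rc_vec (hx.map (cz_toAut x) _)] at h1
  have h2 : x.a *ᵥ ((Qx (fd T2 24)).a *ᵥ fv 0) =
      (x * y).a *ᵥ (y.aᵀ *ᵥ ((Qx (fd T2 24)).a *ᵥ fv 0)) := by
    rw [Ch.mul_a, ← mulVec_mulVec, mulVec_mulVec _ y.a, y.ho', one_mulVec]
  rw [h2, ← fd_app _ _ (by norm_num)] at h1
  have h3 := rc_prj12 (w := x * y) (by rw [map_mul]; exact hx.mul (cz_toAut x) hy) h1
  rwa [dotProduct_mulVec (fv 0) y.aᵀ, vecMul_transpose, dotProduct_comm] at h3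

theorem rc_stp_eq (T G W T2 G2 : ℕ) (k : ℕ → ℕ → ℕ → Bool) : stp T G W T2 G2 k =
    k (app T T2) (gmu G G2) (prj (app T T2) 12 (pau (fd (app T T2) 24) W)) := by
  rw [stp, frc_eq, frc_eq, frc_eq, frc_eq]

theorem rc_rp_one : Rp W0 ((1 : Ch ℝ).a *ᵥ fv 0) := by
  refine ⟨W0_lt, Or.inr ⟨2, by norm_num, fun j hj => ?_⟩⟩
  rw [Ch.one_a, one_mulVec, fv_dot hj (by norm_num), vl_W0 hj]
  split_ifs <;> norm_num

theorem rc_tab_one : Tab IDT 1 := fun i hi => by rw [fd_IDT hi]; simp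

theorem St.one : St IDT GI W0 1 :=
  ⟨1, map_one _, rc_tab_one, Gok.one, rc_rp_one⟩

theorem St.stp {k : ℕ → ℕ → ℕ → Bool} (h : St T G W c) (h2 : Val T2 G2 d)
    (e : stp T G W T2 G2 k = true) : ∃ T' G' W', k T' G' W' = true ∧ St T' G' W' (c * d) := by
  obtain ⟨x, rfl, hT, hG, hW⟩ := h
  obtain ⟨y, rfl, hT2, hG2, hp⟩ := h2
  rw [rc_stp_eq] at e
  exact ⟨_, _, _, e, x * y, map_mul _ _ _, hT.mul (cz_toAut x) hT2, hG.mul hG2,
    (rc_stp hT hT2 hW).smul (by positivity)⟩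

theorem rc_Qx_f0 {j : ℕ} (hj : j < 4096) : (Qx j).a *ᵥ fv 0 = fv j := by
  rw [Qx_fv j (by norm_num), rc_dz_zero, rc_bz_lt (n := 12) hj (by norm_num), add_zero, sg_zero,
    one_smul, Nat.zero_xor, Nat.mod_eq_of_lt hj]

theorem rc_fin {k : ℕ → ℕ → Bool} (e : fin T G W k = true) : W >>> 4096 ≠ 0 ∧
    k (Nat.xor (Nat.mod T P768) (Nat.shiftLeft (Nat.log2 (W >>> 4096)) 768))
      (gsc G (bt W (Nat.log2 (W >>> 4096)))) = true := by
  rw [fin, frc_eq, frc_eq, frc_eq, frc_eq, show Nat.shiftRight W 4096 = W >>> 4096 from rfl] at e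
  generalize W >>> 4096 = U at e ⊢
  generalize k _ _ = b at e ⊢
  cases U with
  | zero => exact absurd e (by simp)
  | succ n => exact ⟨by omega, e⟩

theorem rc_log {W n : ℕ} (hW : W < 2 ^ (n + n)) (hU : W >>> n ≠ 0) :
    Nat.log2 (W >>> n) < n ∧ W.testBit (n + Nat.log2 (W >>> n)) = true := by
  refine ⟨(Nat.log2_lt hU).2 ?_, ?_⟩
  · rw [Nat.shiftRight_eq_div_pow, Nat.div_lt_iff_lt_mul (by positivity), ← pow_add]
    exact hW
  · rw [← Nat.testBit_shiftRight]
    exact Nat.testBit_log2 hU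

theorem St.fin {k : ℕ → ℕ → Bool} (h : St T G W c) (e : fin T G W k = true) :
    ∃ T' G', k T' G' = true ∧ Val T' G' c := by
  obtain ⟨x, rfl, hT, hG, hW, hr⟩ := h
  obtain ⟨hU, e⟩ := rc_fin e
  obtain ⟨r, hr, hv⟩ := hr.resolve_left hU
  obtain ⟨hj, htb⟩ := rc_log (n := 4096) hW hU
  generalize Nat.log2 (W >>> 4096) = j at e hj htb
  have hT' : Tab (Nat.xor (Nat.mod T P768) (Nat.shiftLeft j 768)) (Ch.toAut x) := fun i hi => by
    rw [fd_set hi, hT i hi]
  have h24 := fd_set24 (T := T) (j := j) (by omega)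
  generalize Nat.xor (Nat.mod T P768) (Nat.shiftLeft j 768) = T' at e hT' h24
  have hv' := hv j hj
  rw [vl, if_pos htb] at hv'
  refine ⟨T', gsc G (bt W j), e, ?_⟩
  rw [bt_eq]
  split_ifs with hs
  · refine ⟨x * ngC, by rw [map_mul, toAut_ngC, mul_one], hT', by
      rw [Ch.mul_g, show (ngC : Ch ℝ).g = H16.negCo0 from rfl]; exact hG.neg, ?_⟩
    rw [h24, rc_Qx_f0 hj, Ch.mul_a, show (ngC : Ch ℝ).a = -1 from rfl, mul_neg, mul_one,
      neg_mulVec, dotProduct_neg, hv', rc_bz_of hs, sg_one]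
    linarith
  · refine ⟨x, rfl, hT', hG.pos, ?_⟩
    rw [h24, rc_Qx_f0 hj, hv', rc_bz_of_not (by simpa using hs), sg_zero]
    linarith

theorem St.inv (h : St T G W c) (e : invOk T G W T2 G2 = true) : Val T2 G2 c⁻¹ := by
  obtain ⟨x, rfl, hT, hG, hW⟩ := h
  unfold invOk at e
  simp only [frc_eq, an_eq, Nat.beq_eq] at e
  obtain ⟨e1, e2, e3, e4⟩ := e
  refine ⟨x⁻¹, map_inv _ _, fun i hi => ?_, hG.inv e2, ?_⟩
  · rw [← fd_IDT hi, ← e1, fd_mod hi, fd_app _ _ (by omega), ← hT.map (cz_toAut x), cj_cj]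
  · have h1 := Rp.pau (W := W) (v := x.a *ᵥ fv 0) hW (fd (app T T2) 24)
    generalize pau (fd (app T T2) 24) W = V at h1 e3 e4
    rw [bt_eq] at e3 e4
    have b1 : V.testBit 4096 = true := by
      by_contra hh
      rw [if_neg hh] at e3
      exact absurd e3 (by norm_num)
    have b0 : V.testBit 0 = false := by
      by_contra hh
      rw [if_pos (by simpa using hh)] at e4
      exact absurd e4 (by norm_num)
    rcases h1.2 with h0 | ⟨r, hr, hv⟩
    · have := Nat.testBit_shiftRight (x := V) (i := 4096) (j := 0)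
      rw [h0, b1] at this
      simp at this
    · have := hv 0 (by norm_num)
      rw [vl, if_pos b1, rc_bz_of_not b0, sg_zero, mul_one, fd_app _ _ (by norm_num),
        ← rc_vec (hT.map (cz_toAut x) _)] at this
      rw [Ch.inv_a, dotProduct_mulVec, vecMul_transpose, dotProduct_comm, this]
      exact hr

theorem rc_kc_surj (e : EE) : ∃ u < 2 ^ 25, ks u = 0 ∧ kc u = e := by
  obtain ⟨u, hu, h⟩ := Qc_surj (qa_mem (F := ℝ) 0 e)
  rw [Qc, qa_inj] at h
  exact ⟨u, hu, h.1.symm, h.2.symm⟩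

theorem Val.uniq (h : Val T G c) (h' : Val T G d) : c = d := by
  obtain ⟨x, rfl, hT, hG, hp⟩ := h
  obtain ⟨y, rfl, hT', hG', hp'⟩ := h'
  obtain ⟨w, rfl⟩ : ∃ w, y = x * w := ⟨x⁻¹ * y, by group⟩
  have hw : ∀ e, w * qx 0 e * w⁻¹ = qx 0 e := by
    intro e
    obtain ⟨u, -, h1, h2⟩ := rc_kc_surj e
    have a := rc_lift (hT.map (cz_toAut _) u)
    have b := rc_lift (hT'.map (cz_toAut _) u)
    rw [← a, Qx, h1, h2] at b
    calc w * qx 0 e * w⁻¹ = x⁻¹ * (x * w * qx 0 e * (x * w)⁻¹) * x := by group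
      _ = qx 0 e := by rw [b]; group
  have hg : w.g = 1 := by
    refine (g_of_fix fun e => ?_).resolve_right fun hn => hG.ne_neg (by rwa [← hn])
    have := congrArg Ch.toAut ((qx_conj w 0 e).symm.trans (hw e))
    exact (qa_inj.1 this).2
  obtain ⟨t, ht⟩ : ∃ t : ℝ, w.a = t • 1 := eq_smul_one fun e => by
    have := congrArg Ch.a (mul_inv_eq_iff_eq_mul.1 (hw e))
    simpa [Ch.mul_a, qx_a] using this
  have h1 : t * t = 1 := by
    have := congrFun (congrFun w.ho 0) 0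
    rw [ht] at this
    simpa using this
  rw [Ch.mul_a, ht, Matrix.mul_smul, mul_one, smul_mulVec, dotProduct_smul, smul_eq_mul] at hp'
  have h2 : 0 < t := (pos_iff_pos_of_mul_pos hp').2 hp
  have h3 : t = 1 := by nlinarith
  have : w = 1 := Ch.ext (by rw [ht, h3, one_smul, Ch.one_a]) hg
  rw [this, mul_one]

/-- conjugation inside `Q` -/
theorem rc_Qx_conj (u v : ℕ) : Qx u * Qx v * (Qx u)⁻¹ = qx (ks v + cz u v) (kc v) := by
  rw [Qx, Qx, qx_conj, qx_ka, qx_g, ge_one, kc_polar]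

theorem rc_Qx_xor (u : ℕ) : Qx (u ^^^ 2 ^ 24) = qx (ks u + 1) (kc u) := by
  have := Qc_xor_z u
  rw [Qc, Qc, qa_mul_z, qa_inj] at this
  rw [Qx, this.1, this.2]

theorem val_q (u : ℕ) : Val (qrec u) GI (Qc u) := by
  refine ⟨Qx u, rfl, fun i hi => rc_unlift (x := Qx u) ?_, Gok.one, ?_⟩
  · rw [rc_Qx_conj]
    rcases iv_cases (cz u (2 ^ i)) with ⟨h, -⟩ | ⟨h, -⟩
    · rw [h, add_zero]
      refine Qx_congr fun m hm => ?_
      rcases Nat.lt_succ_iff_lt_or_eq.1 hm with hm | rfl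
      · rw [bz_qrec u hi hm]
      · rw [bz_qrec24 u hi, h, rc_bz_pow, if_neg (by omega)]
    · rw [h, ← rc_Qx_xor]
      refine Qx_congr fun m hm => ?_
      rw [bz_xor]
      rcases Nat.lt_succ_iff_lt_or_eq.1 hm with hm | rfl
      · rw [bz_qrec u hi hm, rc_bz_pow 24, if_neg (by omega), add_zero]
      · rw [bz_qrec24 u hi, h, rc_bz_pow, rc_bz_pow, if_neg (by omega), if_pos rfl, zero_add]
  · rw [fd_qrec24, rc_Qx_mod, rc_orth, fv_dot (by norm_num) (by norm_num)]
    norm_num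

/-! ### initial records -/

/-- the codes of the lattice vectors behind `GEN` -/
def VG : ℕ := 0x10001000100010001000100010001000100010001000100010001000100010001000100010001000100010001000180011000f000f00110011000f0011000f0011000f000f00110011000f0011001100110011001100110011000f0011000d000f0011000f0011000f000f000f000f000f000f000f000f00110011000f001100110011001100110011000f0011000d000f000f000f0011000f00110011000f001100110011000f001100110011000f00110011001100110011000f0011000d000f000f00110011000f0011000f00110011000f000f00110011001100110011000f0011001100110011000f0011000d00110011000f000f000f0011001100110011000f000f000f00110011001100110011000f001100110011000f0011000d0011000f000f001100110011000f0011000f000f0011000f001100110011001100110011000f00110011000f0011000d0011000f00110011000f000f000f000f000f0011001100110011001100110011001100110011000f0011000f0011000d000f0011000f000f000f0011000f0011000f0011001100110011001100110011001100110011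0011000f000f0011000d00110011001100110011001100110011001100110011001100110011001100110011001100110011001100110011000d000f00110011000f000f000f0011000f0011000f00110011001100110011001100110011001100110011000f000f000d001100110011000f00110011000f000f000f000f000f0011001100110011001100110011001100110011000f00110013000f000f0011000f0011000f00110011000f0011000f000f000d00110011001100110011001100110011000f00110011000f000f0011000f0011000f00110011000f0011000f000f0011000d0011001100110011001100110011000f00110011000f000f0011000f0011000f00110011000f0011000f000f00110011000d001100110011001100110011000f00110011000f000f0011000f0011000f00110011000f0011000f000f001100110011000d00110011001100110011000f00110011000f000f0011000f0011000f00110011000f0011000f000f0011001100110011000d0011001100110011000f00110011000f000f0011000f0011000f00110011000f0011000f000f00110011001100110011000d001100110011000f00110011000f000f0011000f0011000f00110011000f0011000f000f001100110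011001100110011000d00110011000f00110011000f000f0011000f0011000f00110011000f0011000f000f0011001100110011001100110011000d0011000f00110011000f000f0011000f0011000f00110011000f0011000f000f00110011001100110011001100110011000d000f00110011000f000f0011000f0011000f00110011000f0011000f000f001100110011001100110011001100110011001300110011000f000f0011000f0011000f00110011000f0011000f000f001100110011001100110011001100110011000f000d0011000f000f0011000f0011000f00110011000f0011000f000f001100110011001100110011001100110011000f0011000d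

/-- kernel test: `P` is an `H16.okM` matrix code of `g`, `G` is `g` modulo 3, `T` induces `g` on
the classes, and the reference element has non-zero overlap -/
noncomputable def iniOk (P T G : ℕ) : Bool :=
  frc P fun P => frc T fun T => frc G fun G =>
  an (H16.okM P) (an (H15.allLt2 24 24 fun i =>
      Nat.beq (Nat.mod (Nat.add (Nat.add (Nat.mod (H16.dg G i) 4) (H16.dg P i)) 2) 3) 0)
    (an (frc (H16.matR P) fun R => frc (app T GEN) fun B => H15.allLt 24 fun m =>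
        frc (H16.app R (H16.col VG m)) fun b => frc (pol (fd B m) GEN) fun s =>
          H15.allLt 24 fun n => Nat.beq
            (Int.toNat (Int.emod (Int.ediv (H16.dotC b (H16.col VG n)) 8) 2)) (bt s (Nat.mul 32 n)))
      (stp IDT GI W0 T G fun _ _ W => Bool.not (Nat.beq (Nat.shiftRight W 4096) 0))))

theorem rc_kc_qm (u v : ℕ) : kc (qm u v) = kc u + kc v := by
  have := Qc_mul u v
  rw [Qc, Qc, Qc, qa_mul, qa_inj] at this
  exact this.2.symm

theorem rc_kc_zero : kc 0 = 0 := by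
  have := Qc_zero
  rw [Qc, ← qa_zero, qa_inj] at this
  exact this.2

theorem rc_kc_z : kc (2 ^ 24) = 0 := by
  have := Qc_z
  rw [Qc, zA_eq, qa_inj] at this
  exact this.2

theorem rc_kc_w : kc (2 ^ 23) = xe Om 0 := by
  have : qa (ks (2 ^ 23)) (kc (2 ^ 23)) = (qa 0 (xe Om 0) : GG) := Qc_w
  exact (qa_inj.1 this).2

theorem rc_kc_pqL (T u n : ℕ) :
    ∀ a, kc (pqL T u n a) = kc a + ∑ i ∈ range n, bz u i • kc (fd T i) := by
  induction n with
  | zero => intro a; rw [Finset.sum_range_zero, add_zero]; rfl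
  | succ n ih =>
    intro a
    rw [pqL_succ, ih, Finset.sum_range_succ]
    split_ifs with h
    · rw [rc_kc_qm, rc_bz_of h, one_smul]; abel
    · rw [rc_bz_of_not (by simpa using h), zero_smul, add_zero]

theorem rc_kc_pq (T u : ℕ) : kc (pq T u) = ∑ i ∈ range 24, bz u i • kc (fd T i) := by
  rw [pq, rc_kc_pqL]
  rcases rc_land u with e | e <;> rw [e]
  · rw [rc_kc_zero, zero_add]
  · rw [rc_kc_z, zero_add]

theorem rc_ind {S : ℕ → Prop} (h0 : S 0) (hz : S (2 ^ 24)) (hm : ∀ a b, S a → S b → S (qm a b))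
    {A : ℕ} (hA : ∀ i < 24, S (fd A i)) (u : ℕ) : S (pq A u) := by
  have key : ∀ n ≤ 24, ∀ a, S a → S (pqL A u n a) := by
    intro n
    induction n with
    | zero => exact fun _ a h => h
    | succ n ih =>
      intro hn a h
      rw [pqL_succ]
      refine ih (by omega) _ ?_
      split_ifs
      · exact hm _ _ (hA n (by omega)) h
      · exact h
  refine key 24 le_rfl _ ?_
  rcases rc_land u with e | e <;> rw [e]
  exacts [h0, hz]

set_option maxRecDepth 100000 in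
theorem gen_conv : app GEN CONV = IDT := by decide +kernel

/-- the fields of `GEN` generate `Q` -/
theorem rc_all {S : ℕ → Prop} (h0 : S 0) (hz : S (2 ^ 24)) (hm : ∀ a b, S a → S b → S (qm a b))
    (hA : ∀ i < 24, S (fd GEN i)) {u : ℕ} (hu : u < 2 ^ 25) : S u := by
  have := rc_ind h0 hz hm (A := IDT) (fun i hi => by
    rw [← gen_conv, fd_app _ _ (by omega)]
    exact rc_ind h0 hz hm hA _) u
  rwa [pq_IDT, Nat.mod_eq_of_lt hu] at this

set_option maxRecDepth 100000 in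
theorem fd_GEN : (∀ m < 12, fd GEN m = qs 0 m) ∧ (∀ i < 11, fd GEN (12 + i) = qs (2 ^ i) 0) ∧
    fd GEN 23 = 2 ^ 23 := by decide +kernel

set_option maxRecDepth 100000 in
theorem rc_VG : (∀ m < 12, ∀ i < 24, (H16.dg (H16.col VG m) i : ℤ) - 16 =
      (if (H15.cw (0 ^^^ 4)).testBit i then -1 else 1) * if i = m then -3 else 1) ∧
    (∀ m < 11, 2 ^ m ^^^ 4 < 2048 ∧ ∀ i < 24, (H16.dg (H16.col VG (12 + m)) i : ℤ) - 16 =
      (if (H15.cw (2 ^ m ^^^ 4)).testBit i then -1 else 1) * if i = 0 then -3 else 1) ∧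
    H16.col VG 23 = H16.e8C 0 := by decide +kernel

theorem rc_code_vX {a e k : ℕ} (ha : a < 65536 ^ 24) (he : e < 2048) (hk : k < 24)
    (h : ∀ i < 24, (H16.dg a i : ℤ) - 16 =
      (if (H15.cw e).testBit i then -1 else 1) * if i = k then -3 else 1) :
    H16.Code a (vX (cd e) (H15.pt k)) := by
  refine ⟨ha, funext (H15.forall_pt.2 fun i hi => ?_)⟩
  rw [H16.vec_pt _ hi, h i hi, vX_apply, cd_apply he hi, bz]
  have : H15.pt i = H15.pt k ↔ i = k := ⟨H15.pt_inj hi hk, fun e => e ▸ rfl⟩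
  simp only [this]
  split_ifs <;> simp

theorem rc_gen_vec {m : ℕ} (hm : m < 24) : ∃ v : Lam, H16.Code (H16.col VG m) v ∧
    sqNorm v.1 ≤ 256 ∧ cl v = kc (fd GEN m) := by
  rcases Nat.lt_or_ge m 12 with h | h
  · refine ⟨_, rc_code_vX (H16.col_lt _ _) (by norm_num) hm (rc_VG.1 m h), ?_, ?_⟩
    · rw [mn_vX]; norm_num
    · rw [fd_GEN.1 m h, kc_qs (by norm_num) hm]
  · obtain ⟨i, rfl⟩ := Nat.exists_eq_add_of_le h
    rcases Nat.lt_or_ge i 11 with h' | h'
    · refine ⟨_, rc_code_vX (H16.col_lt _ _) (rc_VG.2.1 i h').1 (by norm_num) (rc_VG.2.1 i h').2,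
        ?_, ?_⟩
      · rw [mn_vX]; norm_num
      · rw [fd_GEN.2.1 i h', kc_qs (Nat.pow_lt_pow_right (n := 11) (by norm_num) h') (by norm_num)]
    · obtain rfl : i = 11 := by omega
      refine ⟨H16.e8 (H15.pt 0), ?_, ?_, ?_⟩
      · rw [show 12 + 11 = 23 from rfl, rc_VG.2.2]
        exact H16.code_e8C (by norm_num)
      · rw [H16.sqNorm_e8]; norm_num
      · rw [show 12 + 11 = 23 from rfl, fd_GEN.2.2, rc_kc_w, cl_e8]

theorem rc_cz_pow : ∀ n < 24, ∀ i < 24,
    cz (2 ^ ((n + 12) % 24)) (2 ^ i) = if i = n then 1 else 0 := by decide +kernel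

/-- prescribing the signs -/
theorem rc_signs {g : Co0} (h : ∀ i < 24, ge g (kc (2 ^ i)) = kc (fd T i)) :
    ∃ x : Ch ℝ, x.g = g ∧ Tab T (Ch.toAut x) := by
  have key : ∀ n ≤ 24, ∃ x : Ch ℝ, x.g = g ∧
      ∀ i < n, ks (2 ^ i) + x.ka (kc (2 ^ i)) = ks (fd T i) := by
    intro n
    induction n with
    | zero =>
      obtain ⟨x, hx⟩ := exists_lift (F := ℝ) g
      exact fun _ => ⟨x, hx, fun i hi => absurd hi (by omega)⟩
    | succ n ih =>
      intro hn
      obtain ⟨x, hx, hs⟩ := ih (by omega)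
      by_cases e : ks (2 ^ n) + x.ka (kc (2 ^ n)) = ks (fd T n)
      · refine ⟨x, hx, fun i hi => ?_⟩
        rcases Nat.lt_succ_iff_lt_or_eq.1 hi with hi | rfl
        exacts [hs i hi, e]
      · refine ⟨x * Qx (2 ^ ((n + 12) % 24)), by rw [Ch.mul_g, Qx, qx_g, mul_one, hx], fun i hi => ?_⟩
        rw [Ch.ka_mul, Qx, qx_ka, qx_g, ge_one, kc_polar, rc_cz_pow n (by omega) i (by omega)]
        rcases Nat.lt_succ_iff_lt_or_eq.1 hi with hi | rfl
        · rw [if_neg hi.ne, zero_add, hs i hi]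
        · rw [if_pos rfl]
          revert e
          generalize ks (2 ^ i) = a
          generalize x.ka (kc (2 ^ i)) = b
          generalize ks (fd T i) = c
          revert a b c
          decide
  obtain ⟨x, hx, hs⟩ := key 24 le_rfl
  refine ⟨x, hx, fun i hi => rc_unlift ?_⟩
  rw [Qx, Qx, qx_conj, hs i hi, hx, h i hi]

theorem rc_classes {g : Co0}
    (h : ∀ m < 24, ∀ n < 24, ∀ v w : Lam, H16.Code (H16.col VG m) v → H16.Code (H16.col VG n) w →
      sqNorm v.1 ≤ 256 → b8 (g • v) w = cz (pq T (fd GEN m)) (fd GEN n)) :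
    ∀ i < 24, ge g (kc (2 ^ i)) = kc (fd T i) := by
  have h1 : ∀ m < 24, ge g (kc (fd GEN m)) = kc (pq T (fd GEN m)) := by
    intro m hm
    obtain ⟨v, a1, a2, a3⟩ := rc_gen_vec hm
    refine v2_add_eq.1 (eq_zero_of_polar fun b => ?_)
    obtain ⟨u, hu, -, rfl⟩ := rc_kc_surj b
    generalize hD : ge g (kc (fd GEN m)) + kc (pq T (fd GEN m)) = D
    refine rc_all (S := fun u => D.2 (kc u).1 + (kc u).2 D.1 = 0) (by simp [rc_kc_zero])
      (by simp only [rc_kc_z]; simp) (fun a b ha hb => ?_) (fun n hn => ?_) hu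
    · simp only [rc_kc_qm, Prod.fst_add, Prod.snd_add, map_add, LinearMap.add_apply]
      linear_combination ha + hb
    · obtain ⟨w, b1, -, b3⟩ := rc_gen_vec hn
      have e1 := cl_polar (g • v) w
      have e2 := kc_polar (pq T (fd GEN m)) (fd GEN n)
      rw [h m hm n hn v w a1 b1 a2, ← ge_cl, a3, b3] at e1
      simp only [← hD, Prod.fst_add, Prod.snd_add, map_add, LinearMap.add_apply]
      linear_combination e1 + e2 + cz (pq T (fd GEN m)) (fd GEN n) * z2_two
  intro i hi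
  have h2 := rc_all (S := fun u => ge g (kc u) = kc (pq T u))
    (by simp [rc_kc_zero, ge_zero, rc_kc_pq, bz])
    (by
      simp only [rc_kc_z, ge_zero, rc_kc_pq]
      exact (Finset.sum_eq_zero fun j hj => by
        rw [rc_bz_pow, if_neg (by have := mem_range.1 hj; omega), zero_smul]).symm)
    (fun a b ha hb => by
      simp only [rc_kc_qm, ge_add, ha, hb, rc_kc_pq, ← Finset.sum_add_distrib]
      exact Finset.sum_congr rfl fun j hj => by rw [bz_qm a b (mem_range.1 hj), add_smul])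
    h1 (u := 2 ^ i) (Nat.pow_lt_pow_right (by norm_num) (by omega))
  rw [h2, rc_kc_pq]
  simp only [rc_bz_pow, ite_smul, one_smul, zero_smul]
  rw [Finset.sum_ite_eq, if_pos (mem_range.2 hi)]

theorem rc_ini {P : ℕ} (h : iniOk P T G = true) : H16.okM P = true ∧
    (∀ i < 24 * 24, (H16.dg G i % 4 + H16.dg P i + 2) % 3 = 0) ∧
    (∀ m < 24, ∀ n < 24, (H16.dotC (H16.app (H16.matR P) (H16.col VG m)) (H16.col VG n) / 8 % 2).toNat =
      bt (pol (fd (app T GEN) m) GEN) (32 * n)) ∧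
    prj (app IDT T) 12 (pau (fd (app IDT T) 24) W0) >>> 4096 ≠ 0 := by
  rw [iniOk, frc_eq, frc_eq, frc_eq, an_eq, an_eq, an_eq, frc_eq, frc_eq, H15.allLt_iff,
    H15.allLt2_iff, rc_stp_eq] at h
  obtain ⟨h1, h2, h3, h4⟩ := h
  refine ⟨h1, fun i hi => Nat.eq_of_beq_eq_true (h2 i hi), fun m hm n hn => ?_, ?_⟩
  · have := h3 m hm
    rw [frc_eq, frc_eq, H15.allLt_iff] at this
    have e := Nat.eq_of_beq_eq_true (this n hn)
    generalize H16.dotC _ _ = N at e ⊢
    generalize pol _ _ = s at e ⊢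
    exact e
  · generalize prj _ _ _ = V at h4 ⊢
    intro h0
    rw [show Nat.shiftRight V 4096 = V >>> 4096 from rfl, h0] at h4
    exact absurd h4 (by simp)

theorem rc_gok {P : ℕ} {g : Co0} (hM : H16.IsM P g)
    (h : ∀ i < 24 * 24, (H16.dg G i % 4 + H16.dg P i + 2) % 3 = 0) : Gok G g := by
  intro p hp q hq
  have e := h (24 * q + p) (by omega)
  rw [← hM.entry hq hp, gz]
  generalize H16.dg G (24 * q + p) % 4 = a at e ⊢
  generalize H16.dg P (24 * q + p) = b at e ⊢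
  have e' := (ZMod.natCast_eq_zero_iff _ 3).2 (Nat.dvd_of_mod_eq_zero e)
  push_cast at e' ⊢
  have h18 : (18 : ZMod 3) = 0 := by decide
  linear_combination e' - h18

theorem rc_cast2 (N : ℤ) : (((N % 2).toNat : ℕ) : ZMod 2) = (N : ZMod 2) := by
  rw [← Int.cast_natCast, Int.toNat_of_nonneg (Int.emod_nonneg _ (by norm_num))]
  exact zc (by omega)

theorem val_ini {P : ℕ} (h : iniOk P T G = true) : ∃ c, Val T G c := by
  obtain ⟨h1, h2, h3, h4⟩ := rc_ini h
  have hM := H16.isM_el h1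
  generalize H16.el P = g at hM
  have hG := rc_gok hM h2
  obtain ⟨x, rfl, hT⟩ := rc_signs (T := T) (g := g) (rc_classes fun m hm n hn v w hv hw hn' => by
    have e := congrArg (Nat.cast : ℕ → ZMod 2) (h3 m hm n hn)
    rwa [bt_cast, rc_cast2, ← (hM.app hv hn').dot hw, bz_pol _ _ (by omega),
      fd_app _ _ (by omega)] at e)
  have h5 := rc_stp (x := 1) (y := x) (by rw [map_one]; exact rc_tab_one) hT rc_rp_one
  generalize prj _ _ _ = V at h4 h5
  rcases lt_trichotomy 0 (((Qx (fd T 24)).a *ᵥ fv 0) ⬝ᵥ (x.a *ᵥ fv 0)) with e | e | e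
  · exact ⟨_, x, rfl, hT, hG, e⟩
  · rw [← e, mul_zero, zero_smul] at h5
    exact absurd h5.zero h4
  · refine ⟨_, x * qx 1 0, rfl, fun i hi => ?_, by rwa [Ch.mul_g, qx_g, mul_one], ?_⟩
    · have : cj zA (Qc (2 ^ i)) = Qc (2 ^ i) := by
        rw [cj_apply, ← (show Qc (2 ^ i) * zA = zA * Qc (2 ^ i) from cz_toAut _), mul_assoc,
          mul_inv_cancel, mul_one]
      rw [map_mul, cj_mul, show Ch.toAut (qx 1 0 : Ch ℝ) = zA from rfl, this, hT i hi]
    · rw [Ch.mul_a, qx_a, hm_zero, sg_one, neg_smul, one_smul, mul_neg, mul_one, neg_mulVec,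
        dotProduct_neg]
      linarith

theorem eqns_Rec : True := by
  have := @Tab.eq_1
  have := @Gok.eq_1
  have := @Val.eq_1
  have := @St.eq_1
  have := @mz.eq_1
  have := @mG.eq_1
  have := @Rp.eq_1
  have := @VG.eq_1
  have := @iniOk.eq_1
  trivial

end H95.MC
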