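import Cfsg.Agent.Lib.MCore.CvA
import Cfsg.Agent.Lib.MCore.CvB
import Cfsg.Agent.Lib.MCore.CvC
import Cfsg.Agent.Lib.MCore.CvD
import Cfsg.Agent.Lib.MCore.CvE
import Cfsg.Agent.Lib.MCore.CvF
import Cfsg.Agent.Lib.MCore.CvG
import Cfsg.Agent.Lib.MCore.CvH
import Cfsg.Agent.Lib.MCore.CvI
import Cfsg.Agent.Lib.MCore.CvJ
import Cfsg.Agent.Lib.MCore.CvK
import Cfsg.Agent.Lib.MCore.CvL
import Cfsg.Agent.Lib.MCore.CvM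
import Cfsg.Agent.Lib.MCore.CvN

/-! Generated by tools/monster: words to the representatives. -/

set_option autoImplicit false
set_option maxRecDepth 1000000

namespace H95.MC

theorem cv0 : ∀ k < 3, CovP gt0 tt0 3 k :=
  (fa_succ 2 (fa_succ 1 (fa_succ 0 fa_zero cv0_0) cv0_1) cv0_2)

theorem cv1 : ∀ k < 5, CovP gt1 tt1 5 k :=
  (fa_succ 4 (fa_succ 3 (fa_succ 2 (fa_succ 1 (fa_succ 0 fa_zero cv1_0) cv1_1) cv1_2) cv1_3) cv1_4)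

theorem cv2 : ∀ k < 9, CovP gt2 tt2 9 k :=
  (fa_succ 8 (fa_succ 7 (fa_succ 6 (fa_succ 5 (fa_succ 4 (fa_succ 3 (fa_succ 2 (fa_succ 1 (fa_succ 0 fa_zero cv2_0) cv2_1) cv2_2) cv2_3) cv2_4) cv2_5) cv2_6) cv2_7) cv2_8)

theorem cv3 : ∀ k < 14, CovP gt3 tt3 14 k :=
  (fa_succ 13 (fa_succ 12 (fa_succ 11 (fa_succ 10 (fa_succ 9 (fa_succ 8 (fa_succ 7 (fa_succ 6 (fa_succ 5 (fa_succ 4 (fa_succ 3 (fa_succ 2 (fa_succ 1 (fa_succ 0 fa_zero cv3_0) cv3_1) cv3_2) cv3_3) cv3_4) cv3_5) cv3_6) cv3_7) cv3_8) cv3_9) cv3_10) cv3_11) cv3_12) cv3_13)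

theorem cv4 : ∀ k < 16, CovP gt4 tt4 16 k :=
  (fa_succ 15 (fa_succ 14 (fa_succ 13 (fa_succ 12 (fa_succ 11 (fa_succ 10 (fa_succ 9 (fa_succ 8 (fa_succ 7 (fa_succ 6 (fa_succ 5 (fa_succ 4 (fa_succ 3 (fa_succ 2 (fa_succ 1 (fa_succ 0 fa_zero cv4_0) cv4_1) cv4_2) cv4_3) cv4_4) cv4_5) cv4_6) cv4_7) cv4_8) cv4_9) cv4_10) cv4_11) cv4_12) cv4_13) cv4_14) cv4_15)

theorem cv5 : ∀ k < 23, CovP gt5 tt5 23 k :=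
  (fa_succ 22 (fa_succ 21 (fa_succ 20 (fa_succ 19 (fa_succ 18 (fa_succ 17 (fa_succ 16 (fa_succ 15 (fa_succ 14 (fa_succ 13 (fa_succ 12 (fa_succ 11 (fa_succ 10 (fa_succ 9 (fa_succ 8 (fa_succ 7 (fa_succ 6 (fa_succ 5 (fa_succ 4 (fa_succ 3 (fa_succ 2 (fa_succ 1 (fa_succ 0 fa_zero cv5_0) cv5_1) cv5_2) cv5_3) cv5_4) cv5_5) cv5_6) cv5_7) cv5_8) cv5_9) cv5_10) cv5_11) cv5_12) cv5_13) cv5_14) cv5_15) cv5_16) cv5_17) cv5_18) cv5_19) cv5_20) cv5_21) cv5_22)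

theorem cv6 : ∀ k < 37, CovP gt6 tt6 37 k :=
  (fa_succ 36 (fa_succ 35 (fa_succ 34 (fa_succ 33 (fa_succ 32 (fa_succ 31 (fa_succ 30 (fa_succ 29 (fa_succ 28 (fa_succ 27 (fa_succ 26 (fa_succ 25 (fa_succ 24 (fa_succ 23 (fa_succ 22 (fa_succ 21 (fa_succ 20 (fa_succ 19 (fa_succ 18 (fa_succ 17 (fa_succ 16 (fa_succ 15 (fa_succ 14 (fa_succ 13 (fa_succ 12 (fa_succ 11 (fa_succ 10 (fa_succ 9 (fa_succ 8 (fa_succ 7 (fa_succ 6 (fa_succ 5 (fa_succ 4 (fa_succ 3 (fa_succ 2 (fa_succ 1 (fa_succ 0 fa_zero cv6_0) cv6_1) cv6_2) cv6_3) cv6_4) cv6_5) cv6_6) cv6_7) cv6_8) cv6_9) cv6_10) cv6_11) cv6_12) cv6_13) cv6_14) cv6_15) cv6_16) cv6_17) cv6_18) cv6_19) cv6_20) cv6_21) cv6_22) cv6_23) cv6_24) cv6_25) cv6_26) cv6_27) cv6_28) cv6_29) cv6_30) cv6_31) cv6_32) cv6_33) cv6_34) cv6_35) cv6_36)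

theorem cv7 : ∀ k < 10, CovP gt7 tt7 10 k :=
  (fa_succ 9 (fa_succ 8 (fa_succ 7 (fa_succ 6 (fa_succ 5 (fa_succ 4 (fa_succ 3 (fa_succ 2 (fa_succ 1 (fa_succ 0 fa_zero cv7_0) cv7_1) cv7_2) cv7_3) cv7_4) cv7_5) cv7_6) cv7_7) cv7_8) cv7_9)

theorem cv8 : ∀ k < 65, CovP gt8 tt8 65 k :=
  (fa_succ 64 (fa_succ 63 (fa_succ 62 (fa_succ 61 (fa_succ 60 (fa_succ 59 (fa_succ 58 (fa_succ 57 (fa_succ 56 (fa_succ 55 (fa_succ 54 (fa_succ 53 (fa_succ 52 (fa_succ 51 (fa_succ 50 (fa_succ 49 (fa_succ 48 (fa_succ 47 (fa_succ 46 (fa_succ 45 (fa_succ 44 (fa_succ 43 (fa_succ 42 (fa_succ 41 (fa_succ 40 (fa_succ 39 (fa_succ 38 (fa_succ 37 (fa_succ 36 (fa_succ 35 (fa_succ 34 (fa_succ 33 (fa_succ 32 (fa_succ 31 (fa_succ 30 (fa_succ 29 (fa_succ 28 (fa_succ 27 (fa_succ 26 (fa_succ 25 (fa_succ 24 (fa_succ 23 (fa_succ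 22 (fa_succ 21 (fa_succ 20 (fa_succ 19 (fa_succ 18 (fa_succ 17 (fa_succ 16 (fa_succ 15 (fa_succ 14 (fa_succ 13 (fa_succ 12 (fa_succ 11 (fa_succ 10 (fa_succ 9 (fa_succ 8 (fa_succ 7 (fa_succ 6 (fa_succ 5 (fa_succ 4 (fa_succ 3 (fa_succ 2 (fa_succ 1 (fa_succ 0 fa_zero cv8_0) cv8_1) cv8_2) cv8_3) cv8_4) cv8_5) cv8_6) cv8_7) cv8_8) cv8_9) cv8_10) cv8_11) cv8_12) cv8_13) cv8_14) cv8_15) cv8_16) cv8_17) cv8_18) cv8_19) cv8_20) cv8_21) cv8_22) cv8_23) cv8_24) cv8_25) cv8_26) cv8_27) cv8_28) cv8_29) cv8_30) cv8_31) cv8_32) cv8_33) cv8_34) cv8_35) cv8_36) cv8_37) cv8_38) cv8_39) cv8_40) cv8_41) cv8_42) cv8_43) cv8_44) cv8_45) cv8_46) cv8_47) cv8_48) cv8_49) cv8_50) cv8_51) cv8_52) cv8_53) cv8_54) cv8_55) cv8_56) cv8_57) cv8_58) cv8_59) cv8_60) cv8_61) cv8_62) cv8_63) cv8_64)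

theorem cv9 : ∀ k < 23, CovP gt9 tt9 23 k :=
  (fa_succ 22 (fa_succ 21 (fa_succ 20 (fa_succ 19 (fa_succ 18 (fa_succ 17 (fa_succ 16 (fa_succ 15 (fa_succ 14 (fa_succ 13 (fa_succ 12 (fa_succ 11 (fa_succ 10 (fa_succ 9 (fa_succ 8 (fa_succ 7 (fa_succ 6 (fa_succ 5 (fa_succ 4 (fa_succ 3 (fa_succ 2 (fa_succ 1 (fa_succ 0 fa_zero cv9_0) cv9_1) cv9_2) cv9_3) cv9_4) cv9_5) cv9_6) cv9_7) cv9_8) cv9_9) cv9_10) cv9_11) cv9_12) cv9_13) cv9_14) cv9_15) cv9_16) cv9_17) cv9_18) cv9_19) cv9_20) cv9_21) cv9_22)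

theorem cv10 : ∀ k < 38, CovP gt10 tt10 38 k :=
  (fa_succ 37 (fa_succ 36 (fa_succ 35 (fa_succ 34 (fa_succ 33 (fa_succ 32 (fa_succ 31 (fa_succ 30 (fa_succ 29 (fa_succ 28 (fa_succ 27 (fa_succ 26 (fa_succ 25 (fa_succ 24 (fa_succ 23 (fa_succ 22 (fa_succ 21 (fa_succ 20 (fa_succ 19 (fa_succ 18 (fa_succ 17 (fa_succ 16 (fa_succ 15 (fa_succ 14 (fa_succ 13 (fa_succ 12 (fa_succ 11 (fa_succ 10 (fa_succ 9 (fa_succ 8 (fa_succ 7 (fa_succ 6 (fa_succ 5 (fa_succ 4 (fa_succ 3 (fa_succ 2 (fa_succ 1 (fa_succ 0 fa_zero cv10_0) cv10_1) cv10_2) cv10_3) cv10_4) cv10_5) cv10_6) cv10_7) cv10_8) cv10_9) cv10_10) cv10_11) cv10_12) cv10_13) cv10_14) cv10_15) cv10_16) cv10_17) cv10_18) cv10_19) cv10_20) cv10_21) cv10_22) cv10_23) cv10_24) cv10_25) cv10_26) cv10_27) cv10_28) cv10_29) cv10_30) cv10_31) cv10_32) cv10_33)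 cv10_34) cv10_35) cv10_36) cv10_37)

theorem cv11 : ∀ k < 8, CovP gt11 tt11 8 k :=
  (fa_succ 7 (fa_succ 6 (fa_succ 5 (fa_succ 4 (fa_succ 3 (fa_succ 2 (fa_succ 1 (fa_succ 0 fa_zero cv11_0) cv11_1) cv11_2) cv11_3) cv11_4) cv11_5) cv11_6) cv11_7)

end H95.MC
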