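import Cfsg.Agent.Lib.MCore.LaA
import Cfsg.Agent.Lib.MCore.LaB
import Cfsg.Agent.Lib.MCore.LaC
import Cfsg.Agent.Lib.MCore.LaD
import Cfsg.Agent.Lib.MCore.LaE
import Cfsg.Agent.Lib.MCore.LaF

/-! Generated by tools/monster: the records are products. -/

set_option autoImplicit false
set_option maxRecDepth 1000000

namespace H95.MC

theorem lb0 : ∀ k < 57, chk1 RR0 UU0 k = true := allR_up 57 fa_zero la0 rfl

theorem lb1 : ∀ k < 85, chk1 RR0 UU0 k = true := allR_up 85 lb0 la1 rfl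

theorem lb2 : ∀ k < 106, chk1 RR0 UU0 k = true := allR_up 106 lb1 la2 rfl

theorem lb3 : ∀ k < 127, chk1 RR0 UU0 k = true := allR_up 127 lb2 la3 rfl

theorem lb4 : ∀ k < 150, chk1 RR0 UU0 k = true := allR_up 150 lb3 la4 rfl

theorem lb5 : ∀ k < 163, chk1 RR0 UU0 k = true := allR_up 163 lb4 la5 rfl

theorem lb6 : ∀ k < 178, chk1 RR0 UU0 k = true := allR_up 178 lb5 la6 rfl

theorem lb7 : ∀ k < 198, chk1 RR0 UU0 k = true := allR_up 198 lb6 la7 rfl

theorem lb8 : ∀ k < 210, chk1 RR0 UU0 k = true := allR_up 210 lb7 la8 rfl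

theorem lb9 : ∀ k < 230, chk1 RR0 UU0 k = true := allR_up 230 lb8 la9 rfl

theorem lb10 : ∀ k < 249, chk1 RR0 UU0 k = true := allR_up 249 lb9 la10 rfl

theorem lb11 : ∀ k < 268, chk1 RR0 UU0 k = true := allR_up 268 lb10 la11 rfl

theorem lb12 : ∀ k < 290, chk1 RR0 UU0 k = true := allR_up 290 lb11 la12 rfl

theorem lb13 : ∀ k < 307, chk1 RR0 UU0 k = true := allR_up 307 lb12 la13 rfl

theorem lb14 : ∀ k < 326, chk1 RR0 UU0 k = true := allR_up 326 lb13 la14 rfl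

theorem lb15 : ∀ k < 348, chk1 RR0 UU0 k = true := allR_up 348 lb14 la15 rfl

theorem lb16 : ∀ k < 372, chk1 RR0 UU0 k = true := allR_up 372 lb15 la16 rfl

theorem lb17 : ∀ k < 383, chk1 RR0 UU0 k = true := allR_up 383 lb16 la17 rfl

theorem lb18 : ∀ k < 407, chk1 RR0 UU0 k = true := allR_up 407 lb17 la18 rfl

theorem lb19 : ∀ k < 430, chk1 RR0 UU0 k = true := allR_up 430 lb18 la19 rfl

theorem lb20 : ∀ k < 452, chk1 RR0 UU0 k = true := allR_up 452 lb19 la20 rfl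

theorem lb21 : ∀ k < 476, chk1 RR0 UU0 k = true := allR_up 476 lb20 la21 rfl

theorem lb22 : ∀ k < 490, chk1 RR0 UU0 k = true := allR_up 490 lb21 la22 rfl

theorem lb23 : ∀ k < 515, chk1 RR0 UU0 k = true := allR_up 515 lb22 la23 rfl

theorem lb24 : ∀ k < 542, chk1 RR0 UU0 k = true := allR_up 542 lb23 la24 rfl

theorem lb25 : ∀ k < 563, chk1 RR0 UU0 k = true := allR_up 563 lb24 la25 rfl

theorem lb26 : ∀ k < 592, chk1 RR0 UU0 k = true := allR_up 592 lb25 la26 rfl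

theorem lb27 : ∀ k < 619, chk1 RR0 UU0 k = true := allR_up 619 lb26 la27 rfl

theorem lb28 : ∀ k < 647, chk1 RR0 UU0 k = true := allR_up 647 lb27 la28 rfl

theorem lb29 : ∀ k < 673, chk1 RR0 UU0 k = true := allR_up 673 lb28 la29 rfl

theorem lb30 : ∀ k < 702, chk1 RR0 UU0 k = true := allR_up 702 lb29 la30 rfl

theorem lb31 : ∀ k < 728, chk1 RR0 UU0 k = true := allR_up 728 lb30 la31 rfl

theorem lb32 : ∀ k < 754, chk1 RR0 UU0 k = true := allR_up 754 lb31 la32 rfl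

theorem lb33 : ∀ k < 775, chk1 RR0 UU0 k = true := allR_up 775 lb32 la33 rfl

theorem lb34 : ∀ k < 798, chk1 RR0 UU0 k = true := allR_up 798 lb33 la34 rfl

theorem lb35 : ∀ k < 824, chk1 RR0 UU0 k = true := allR_up 824 lb34 la35 rfl

theorem lb36 : ∀ k < 848, chk1 RR0 UU0 k = true := allR_up 848 lb35 la36 rfl

theorem lb37 : ∀ k < 868, chk1 RR0 UU0 k = true := allR_up 868 lb36 la37 rfl

theorem lb38 : ∀ k < 891, chk1 RR0 UU0 k = true := allR_up 891 lb37 la38 rfl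

theorem lb39 : ∀ k < 904, chk1 RR0 UU0 k = true := allR_up 904 lb38 la39 rfl

theorem lb40 : ∀ k < 930, chk1 RR0 UU0 k = true := allR_up 930 lb39 la40 rfl

theorem lb41 : ∀ k < 959, chk1 RR0 UU0 k = true := allR_up 959 lb40 la41 rfl

theorem lb42 : ∀ k < 988, chk1 RR0 UU0 k = true := allR_up 988 lb41 la42 rfl

theorem lb43 : ∀ k < 1017, chk1 RR0 UU0 k = true := allR_up 1017 lb42 la43 rfl

theorem lb44 : ∀ k < 1037, chk1 RR0 UU0 k = true := allR_up 1037 lb43 la44 rfl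

theorem lb45 : ∀ k < 1065, chk1 RR0 UU0 k = true := allR_up 1065 lb44 la45 rfl

theorem lb46 : ∀ k < 1082, chk1 RR0 UU0 k = true := allR_up 1082 lb45 la46 rfl

theorem lb47 : ∀ k < 1106, chk1 RR0 UU0 k = true := allR_up 1106 lb46 la47 rfl

theorem lb48 : ∀ k < 1132, chk1 RR0 UU0 k = true := allR_up 1132 lb47 la48 rfl

theorem lb49 : ∀ k < 1161, chk1 RR0 UU0 k = true := allR_up 1161 lb48 la49 rfl

theorem lb50 : ∀ k < 1190, chk1 RR0 UU0 k = true := allR_up 1190 lb49 la50 rfl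

theorem lb51 : ∀ k < 1220, chk1 RR0 UU0 k = true := allR_up 1220 lb50 la51 rfl

theorem lb52 : ∀ k < 1248, chk1 RR0 UU0 k = true := allR_up 1248 lb51 la52 rfl

theorem lb53 : ∀ k < 1277, chk1 RR0 UU0 k = true := allR_up 1277 lb52 la53 rfl

theorem lb54 : ∀ k < 1304, chk1 RR0 UU0 k = true := allR_up 1304 lb53 la54 rfl

theorem lb55 : ∀ k < 1329, chk1 RR0 UU0 k = true := allR_up 1329 lb54 la55 rfl

theorem lb56 : ∀ k < 1352, chk1 RR0 UU0 k = true := allR_up 1352 lb55 la56 rfl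

theorem lb57 : ∀ k < 1372, chk1 RR0 UU0 k = true := allR_up 1372 lb56 la57 rfl

theorem lb58 : ∀ k < 1394, chk1 RR0 UU0 k = true := allR_up 1394 lb57 la58 rfl

theorem lb59 : ∀ k < 1409, chk1 RR0 UU0 k = true := allR_up 1409 lb58 la59 rfl

theorem lb60 : ∀ k < 1433, chk1 RR0 UU0 k = true := allR_up 1433 lb59 la60 rfl

theorem lb61 : ∀ k < 1460, chk1 RR0 UU0 k = true := allR_up 1460 lb60 la61 rfl

theorem lb62 : ∀ k < 1494, chk1 RR0 UU0 k = true := allR_up 1494 lb61 la62 rfl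

theorem lb63 : ∀ k < 1547, chk1 RR0 UU0 k = true := allR_up 1547 lb62 la63 rfl

theorem lb64 : ∀ k < 1600, chk1 RR0 UU0 k = true := allR_up 1600 lb63 la64 rfl

theorem lb65 : ∀ k < 1653, chk1 RR0 UU0 k = true := allR_up 1653 lb64 la65 rfl

theorem lb66 : ∀ k < 1706, chk1 RR0 UU0 k = true := allR_up 1706 lb65 la66 rfl

theorem lb67 : ∀ k < 1759, chk1 RR0 UU0 k = true := allR_up 1759 lb66 la67 rfl

theorem lb68 : ∀ k < 1812, chk1 RR0 UU0 k = true := allR_up 1812 lb67 la68 rfl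

theorem lb69 : ∀ k < 1865, chk1 RR0 UU0 k = true := allR_up 1865 lb68 la69 rfl

theorem lb70 : ∀ k < 1918, chk1 RR0 UU0 k = true := allR_up 1918 lb69 la70 rfl

theorem lb71 : ∀ k < 1971, chk1 RR0 UU0 k = true := allR_up 1971 lb70 la71 rfl

theorem lb72 : ∀ k < 2024, chk1 RR0 UU0 k = true := allR_up 2024 lb71 la72 rfl

theorem lb73 : ∀ k < 2077, chk1 RR0 UU0 k = true := allR_up 2077 lb72 la73 rfl

theorem lb74 : ∀ k < 2130, chk1 RR0 UU0 k = true := allR_up 2130 lb73 la74 rfl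

theorem lb75 : ∀ k < 2141, chk1 RR0 UU0 k = true := allR_up 2141 lb74 la75 rfl

theorem all_chk1 : ∀ k < 2141, chk1 RR0 UU0 k = true := lb75

end H95.MC
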